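import Groth.Agent.Lib.ExtShriek24.TraceFinEt
import Groth.Agent.Lib.MumVan22.PushShear
import Groth.Agent.Lib.HTop25.Basic

/-!
# Sections of finite étale coverings
-/

set_option autoImplicit false
set_option linter.style.haveILetI false
set_option backward.isDefEq.respectTransparency false

universe u

open CategoryTheory CategoryTheory.Limits AlgebraicGeometry

noncomputable section

namespace Groth.Agent.FEtSect2

/-- The degree of a finite flat morphism whose direct image is locally free of rank `n`. -/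
theorem finrank_eq {X Y : Scheme.{u}} (f : X ⟶ Y) [IsFinite f] [Flat f] (n : ℕ)
    (hdeg : FlatMod.IsFinLocFreeOfRank n ((Scheme.Modules.pushforward f).obj (Coh.structureModule X)))
    (y : Y) : f.finrank y = n := by
  let k := Y.residueField y
  let c : Spec (CommRingCat.of k) ⟶ Y := Y.fromSpecResidueField y
  obtain ⟨V, hy, ⟨eV⟩⟩ := hdeg y
  have hct : ∀ t : Spec (CommRingCat.of k), c t = y := fun t => Scheme.fromSpecResidueField_apply y t
  obtain ⟨i1⟩ := PushShear22.nonempty_pull_free eV c (fun t => by rw [hct]; exact hy)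
  obtain ⟨i2⟩ := PushShear22.nonempty_pull_pushO f c
  have h := PushShear22.rank_eq_finrank (pullback.fst c f) (i2.symm ≪≫ i1)
  rwa [Scheme.Hom.finrank_pullback_fst, hct] at h

variable {P S : Scheme.{u}} (s : P ⟶ S)

/-- Sections. -/
abbrev Sect : Type u := {a : S ⟶ P // a ≫ s = 𝟙 S}

/-- Two lifts from a connected scheme to an unramified separated cover agreeing at a point agree. -/
theorem lifts_ext [IsSeparated s] [AlgebraicGeometry.Etale s] [ConnectedSpace S] (a b : S ⟶ P)
    (hab : a ≫ s = b ≫ s) {T : Scheme.{u}} [Nonempty T] (ξ : T ⟶ S) (h : ξ ≫ a = ξ ≫ b) : a = b := by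
  let q : S ⟶ pullback s s := pullback.lift a b hab
  let j := pullback.fst q (pullback.diagonal s)
  haveI : IsOpenImmersion j := inferInstance
  haveI : IsClosedImmersion j := inferInstance
  have hj : j ≫ a = j ≫ b := by
    have h1 := congrArg (· ≫ pullback.fst s s) (pullback.condition (f := q) (g := pullback.diagonal s))
    have h2 := congrArg (· ≫ pullback.snd s s) (pullback.condition (f := q) (g := pullback.diagonal s))
    simp only [q, Category.assoc, pullback.lift_fst, pullback.lift_snd, pullback.diagonal_fst,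
      pullback.diagonal_snd, Category.comp_id] at h1 h2
    exact h1.trans h2.symm
  let t : T ⟶ pullback q (pullback.diagonal s) := pullback.lift ξ (ξ ≫ a) (pullback.hom_ext
    (by simp [q]) (by simp [q, h]))
  have hne : (Set.range j).Nonempty :=
    ⟨ξ (Classical.arbitrary T), t (Classical.arbitrary T), by
      rw [← Scheme.Hom.comp_apply, pullback.lift_fst]⟩
  have hu : Set.range j = Set.univ :=
    IsClopen.eq_univ ⟨(Scheme.Hom.isClosedEmbedding j).isClosed_range,
      (Scheme.Hom.isOpenEmbedding j).isOpen_range⟩ hne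
  haveI : Surjective j := ⟨Set.range_eq_univ.mp hu⟩
  haveI : Epi j.base := (TopCat.epi_iff_surjective _).mpr (Set.range_eq_univ.mp hu)
  haveI : IsIso j := IsOpenImmersion.isIso j
  exact (cancel_epi j).mp hj

variable (Ω : Type u) [Field Ω] (ξ : Spec (CommRingCat.of Ω) ⟶ S)

/-- Restriction of sections to a geometric point. -/
def res (a : Sect s) : {t : Spec (CommRingCat.of Ω) ⟶ P // t ≫ s = ξ} :=
  ⟨ξ ≫ a.1, by rw [Category.assoc, a.2, Category.comp_id]⟩

theorem res_injective [IsSeparated s] [AlgebraicGeometry.Etale s] [ConnectedSpace S] :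
    Function.Injective (res s Ω ξ) := fun a b h =>
  Subtype.ext (lifts_ext s a.1 b.1 (a.2.trans b.2.symm) ξ (congrArg Subtype.val h))

end Groth.Agent.FEtSect2

namespace Groth.Agent.FEtSect2

variable {P S : Scheme.{u}} (s : P ⟶ S) [IsFinite s] [AlgebraicGeometry.Etale s] [ConnectedSpace S]
  {n : ℕ} (hn : ∀ x : S, s.finrank x = n)

theorem exists_geomPoint (x : S) : ∃ (Ω : Type u) (_ : Field Ω) (_ : IsAlgClosed Ω)
    (ξ : Spec (CommRingCat.of Ω) ⟶ S), True :=
  ⟨AlgebraicClosure (S.residueField x), inferInstance, inferInstance,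
    Spec.map (CommRingCat.ofHom (algebraMap (S.residueField x) (AlgebraicClosure (S.residueField x)))) ≫
      S.fromSpecResidueField x, trivial⟩

include hn in
theorem finite_card_le [Nonempty S] : Finite (Sect s) ∧ Nat.card (Sect s) ≤ n := by
  obtain ⟨Ω, _, _, ξ, -⟩ := exists_geomPoint (Classical.arbitrary S)
  have hc := ExtShriek24.card_lifts_eq_finrank s ξ
  rw [hn] at hc
  haveI : Finite {t : Spec (CommRingCat.of Ω) ⟶ P // t ≫ s = ξ} :=
    Weight.finite_lifts s (fun z => s.quasiFiniteAt z) ξ (s.finite_preimage_singleton _)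
  exact ⟨Finite.of_injective _ (res_injective s Ω ξ),
    hc ▸ Nat.card_le_card_of_injective _ (res_injective s Ω ξ)⟩

include hn in
theorem res_bijective [Nonempty S] (hcard : Nat.card (Sect s) = n) (Ω : Type u) [Field Ω]
    [IsAlgClosed Ω] (ξ : Spec (CommRingCat.of Ω) ⟶ S) : Function.Bijective (res s Ω ξ) := by
  have hc := ExtShriek24.card_lifts_eq_finrank s ξ
  rw [hn] at hc
  haveI : Finite {t : Spec (CommRingCat.of Ω) ⟶ P // t ≫ s = ξ} :=
    Weight.finite_lifts s (fun z => s.quasiFiniteAt z) ξ (s.finite_preimage_singleton _)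
  haveI := (finite_card_le s hn).1
  exact (Nat.bijective_iff_injective_and_card _).mpr ⟨res_injective s Ω ξ, hcard.trans hc.symm⟩

include hn in
theorem isIso_desc [Nonempty S] {J : Type u} [Finite J] (a : J ≃ Sect s)
    (hcard : Nat.card (Sect s) = n) : IsIso (Sigma.desc fun i => (a i).1) := by
  set σ := Sigma.desc fun i => (a i).1 with hσ
  have hσs : σ ≫ s = Sigma.desc fun _ : J => 𝟙 S :=
    Sigma.hom_ext _ _ fun i => by simp [σ, (a i).2]
  haveI : ∀ i : J, IsFinite (a i).1 := fun i => by
    haveI : IsFinite ((a i).1 ≫ s) := by rw [(a i).2]; infer_instance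
    exact MorphismProperty.of_postcomp (W := @IsFinite) (W' := @IsSeparated) _ s inferInstance this
  haveI : IsFinite σ := HTop25.isFinite_sigmaDesc _
  haveI : AlgebraicGeometry.Etale (σ ≫ s) := by
    rw [hσs]
    exact IsZariskiLocalAtSource.sigmaDesc fun _ => inferInstance
  haveI : AlgebraicGeometry.Etale σ := AlgebraicGeometry.Etale.of_comp σ s
  haveI : Flat σ := inferInstance
  haveI : LocallyOfFinitePresentation σ := inferInstance
  rw [Scheme.Hom.isIso_iff_finrank_eq]
  funext p
  let Ω := AlgebraicClosure (P.residueField p)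
  let η : Spec (CommRingCat.of Ω) ⟶ P :=
    Spec.map (CommRingCat.ofHom (algebraMap (P.residueField p) Ω)) ≫ P.fromSpecResidueField p
  have hc := ExtShriek24.card_lifts_eq_finrank σ η
  have hp : Weight.pt η = p := by
    show η _ = p
    simp only [η, Scheme.Hom.comp_apply]
    exact Scheme.fromSpecResidueField_apply _ _
  rw [hp] at hc
  rw [Pi.one_apply, ← hc, Nat.card_eq_one_iff_unique]
  have hb := res_bijective s hn hcard Ω (η ≫ s)
  have key : ∀ t : {t : Spec (CommRingCat.of Ω) ⟶ ∐ fun _ : J => S // t ≫ σ = η},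
      ∃ i, t.1 = (η ≫ s) ≫ Sigma.ι (fun _ : J => S) i := by
    rintro ⟨t, ht⟩
    obtain ⟨i, y, hy⟩ := HTop25.exists_sigma_ι (Y := fun _ : J => S) (t (IsLocalRing.closedPoint Ω))
    have hr : Set.range t ⊆ Set.range (Sigma.ι (fun _ : J => S) i) := by
      rintro _ ⟨z, rfl⟩
      exact ⟨y, hy.trans (congrArg t (Subsingleton.elim (α := Spec (CommRingCat.of Ω)) _ _))⟩
    refine ⟨i, ?_⟩
    have hf := IsOpenImmersion.lift_fac (Sigma.ι (fun _ : J => S) i) t hr
    have h1 : IsOpenImmersion.lift (Sigma.ι (fun _ : J => S) i) t hr = η ≫ s :=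
      calc IsOpenImmersion.lift (Sigma.ι (fun _ : J => S) i) t hr
          = IsOpenImmersion.lift (Sigma.ι (fun _ : J => S) i) t hr ≫
              Sigma.ι (fun _ : J => S) i ≫ Sigma.desc (fun _ : J => 𝟙 S) := by
            rw [Sigma.ι_desc, Category.comp_id]
        _ = t ≫ Sigma.desc (fun _ : J => 𝟙 S) := by rw [← Category.assoc, hf]
        _ = η ≫ s := by rw [← hσs, ← Category.assoc, ht]
    exact hf.symm.trans (congrArg (· ≫ Sigma.ι (fun _ : J => S) i) h1)
  constructor
  · refine ⟨fun t t' => ?_⟩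
    obtain ⟨i, hi⟩ := key t
    obtain ⟨j, hj⟩ := key t'
    have : a i = a j := hb.1 (Subtype.ext (by
      have e1 := t.2
      have e2 := t'.2
      rw [hi, Category.assoc, Sigma.ι_desc] at e1
      rw [hj, Category.assoc, Sigma.ι_desc] at e2
      exact e1.trans e2.symm))
    exact Subtype.ext (hi.trans ((a.injective this) ▸ hj.symm))
  · obtain ⟨a₀, ha₀⟩ := hb.2 ⟨η, rfl⟩
    exact ⟨⟨(η ≫ s) ≫ Sigma.ι (fun _ : J => S) (a.symm a₀), by
      rw [Category.assoc, Sigma.ι_desc, Equiv.apply_symm_apply]
      exact congrArg Subtype.val ha₀⟩⟩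

theorem sigma_ι_injective [Nonempty S] {J : Type} [Small.{u} J] :
    Function.Injective (fun i : J => Sigma.ι (fun _ : J => S) i) := by
  intro i j h
  by_contra hne
  have hd := disjoint_opensRange_sigmaι (fun _ : J => S) i j hne
  let y := Classical.arbitrary S
  have h1 : Sigma.ι (fun _ : J => S) i y ∈ (Sigma.ι (fun _ : J => S) i).opensRange := ⟨y, rfl⟩
  have h2 : Sigma.ι (fun _ : J => S) i y ∈ (Sigma.ι (fun _ : J => S) j).opensRange :=
    ⟨y, (congrArg (fun φ => φ y) h).symm⟩
  exact hd.le_bot ⟨h1, h2⟩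

include hn in
theorem card_eq_iff [Nonempty S] :
    Nat.card (Sect s) = n ↔ ∃ e : P ≅ ∐ fun _ : Fin n => S, e.hom ≫ Sigma.desc (fun _ : Fin n => 𝟙 S) = s := by
  haveI := (finite_card_le s hn).1
  constructor
  · intro h
    let a : ULift.{u} (Fin n) ≃ Sect s := Equiv.ulift.trans (Finite.equivFinOfCardEq h).symm
    haveI := isIso_desc s hn a h
    refine ⟨(asIso (Sigma.desc fun i => (a i).1)).symm ≪≫
      Sigma.whiskerEquiv Equiv.ulift (fun _ => Iso.refl S), ?_⟩
    simp only [Iso.trans_hom, Iso.symm_hom, asIso_inv, Category.assoc, IsIso.inv_comp_eq]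
    refine Sigma.hom_ext _ _ fun i => ?_
    simp [(a i).2]
  · rintro ⟨e, he⟩
    refine le_antisymm (finite_card_le s hn).2 ?_
    let m : Fin n → Sect s := fun i => ⟨Sigma.ι (fun _ : Fin n => S) i ≫ e.inv, by
      rw [← he]; simp⟩
    have hm : Function.Injective m := fun i j hij => sigma_ι_injective (S := S)
      ((cancel_mono e.inv).mp (congrArg Subtype.val hij))
    simpa using Nat.card_le_card_of_injective m hm

end Groth.Agent.FEtSect2
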